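import Groth.Agent.KTheory.PBundleK.Main
import Groth.Agent.GrassSub.Bridge
import Groth.Agent.S4495

/-!
# Projective bundles over a connected noetherian scheme
-/

set_option autoImplicit false
universe v u

open CategoryTheory CategoryTheory.Limits AlgebraicGeometry Opposite

namespace Groth.KTheory.Splitting

open Groth.KTheory.PBundleK

variable {X P : Scheme.{u}}

/-- If `π_* O_P ≅ O_X`, then `π` is bijective on global functions. -/
theorem appTop_bijective (π : P ⟶ X)
    (u : Coh.structureModule X ≅ (Scheme.Modules.pushforward π).obj (Coh.structureModule P)) :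
    Function.Bijective (π.app ⊤).hom := by
  let f : Γ(X, ⊤) → Γ(P, π ⁻¹ᵁ ⊤) := fun a => (Scheme.Modules.Hom.app u.hom ⊤).hom a
  have h1' : ∀ a, (Scheme.Modules.Hom.app u.inv ⊤).hom (f a) = a := fun a =>
    congrArg (fun φ : Coh.structureModule X ⟶ Coh.structureModule X =>
      (Scheme.Modules.Hom.app φ ⊤).hom a) u.hom_inv_id
  have hf : Function.Bijective f :=
    ⟨fun a b h => (h1' a).symm.trans ((congrArg _ h).trans (h1' b)),
    fun b => ⟨(Scheme.Modules.Hom.app u.inv ⊤).hom b,
      congrArg (fun φ : (Scheme.Modules.pushforward π).obj (Coh.structureModule P) ⟶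
        (Scheme.Modules.pushforward π).obj (Coh.structureModule P) =>
        (Scheme.Modules.Hom.app φ ⊤).hom b) u.inv_hom_id⟩⟩
  have hlin : ∀ a b, f (a * b) = (π.app ⊤).hom a * f b := fun a b =>
    Scheme.Modules.Hom.app_smul u.hom a b
  have h1 : ∀ a, f a = (π.app ⊤).hom a * f 1 := fun a => by rw [← hlin, mul_one]
  obtain ⟨r, hr⟩ := hf.2 1
  obtain ⟨s, hs⟩ := hf.2 (f 1 * f 1)
  have hrs : r * s = 1 := by
    refine hf.1 ?_
    rw [hlin, hs, ← mul_assoc, ← h1, hr, one_mul]
  refine ⟨(injective_iff_map_eq_zero _).2 fun a ha => hf.1 ?_, fun x => ?_⟩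
  · rw [h1 a, ha, zero_mul, h1 0, map_zero, zero_mul]
  · obtain ⟨a, rfl⟩ := hf.2 x
    refine ⟨a * s, ?_⟩
    have hg : (π.app ⊤).hom s = f 1 := by
      have e : f 1 = (π.app ⊤).hom r * (f 1 * f 1) := by rw [← mul_assoc, ← h1, hr, one_mul]
      rw [← hs, h1 s, ← mul_assoc, ← map_mul, hrs, map_one, one_mul] at e
      calc (π.app ⊤).hom s = (π.app ⊤).hom s * 1 := (mul_one _).symm
        _ = (π.app ⊤).hom s * f r := by rw [hr]
        _ = (π.app ⊤).hom s * ((π.app ⊤).hom r * f 1) := by rw [← h1]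
        _ = f 1 := by rw [← mul_assoc, ← map_mul, mul_comm s, hrs, map_one, one_mul]
    rw [map_mul, hg, ← h1]

/-- A scheme with `π_* O_P ≅ O_X` over a connected scheme is connected. -/
theorem connectedSpace_of_push (π : P ⟶ X) [ConnectedSpace ↥X]
    (u : Coh.structureModule X ≅ (Scheme.Modules.pushforward π).obj (Coh.structureModule P)) :
    ConnectedSpace ↥P := by
  have hb := appTop_bijective π u
  haveI : Nontrivial Γ(X, ⊤) := by
    obtain ⟨x⟩ := (inferInstance : Nonempty ↥X)
    exact (X.presheaf.germ ⊤ x trivial).hom.domain_nontrivial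
  have hX := (Groth.Agent.S4495.result X.toLocallyRingedSpace).1 (inferInstance : PreconnectedSpace ↥X)
  haveI : PreconnectedSpace ↥P := by
    refine (Groth.Agent.S4495.result P.toLocallyRingedSpace).2 fun e he => ?_
    obtain ⟨b, rfl⟩ := hb.2 e
    have hb' : IsIdempotentElem b := hb.1 (by rw [map_mul]; exact he)
    rcases hX b hb' with rfl | rfl
    · exact Or.inl (map_zero _)
    · exact Or.inr (map_one _)
  haveI : Nonempty ↥P := by
    by_contra hc
    rw [not_nonempty_iff] at hc
    have h : Subsingleton Γ(P, π ⁻¹ᵁ ⊤) := by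
      refine ⟨fun a b => P.sheaf.eq_of_locally_eq' (fun x : PEmpty.{u + 1} => (⊥ : P.Opens)) _
        (fun x => x.elim) (fun x _ => (hc.false x).elim) a b fun x => x.elim⟩
    exact not_subsingleton Γ(X, ⊤) ⟨fun a b => hb.1 (h.elim _ _)⟩
  exact ⟨inferInstance⟩

/-- Projective bundles exist over a connected noetherian scheme, and are connected and noetherian. -/
theorem exists_bundle [IsNoetherian X] [ConnectedSpace ↥X] {n : ℕ} {E : X.Modules}
    (hE : FlatMod.IsFinLocFreeOfRank (n + 1) E) :
    ∃ (P : Scheme.{u}) (_ : IsNoetherian P) (_ : ConnectedSpace ↥P) (π : P ⟶ X) (O1 : P.Modules)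
      (q : (Scheme.Modules.pullback π).obj E ⟶ O1), KRR.IsProjBundle π E O1 q := by
  obtain ⟨P, π, O1, q, hp, hG⟩ :=
    GrassSub.exists_isGrass (KTheory.LocFree.isCoh (Groth.LocFree.isFinLocFree_of_rank hE)) 1
  have hPB := Grass.isGrass_one_iff.1 hG
  haveI : IsLocallyNoetherian P := LocallyOfFiniteType.isLocallyNoetherian π
  haveI : CompactSpace ↥P := QuasiCompact.compactSpace_of_compactSpace π
  haveI : IsNoetherian P := ⟨⟩
  obtain ⟨A⟩ := exists_atlas hE hPB
  obtain ⟨e⟩ := nonempty_push_pullback A (Groth.LocFree.isFinLocFree_unit X)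
  haveI := connectedSpace_of_push π (e ≪≫ (Scheme.Modules.pushforward π).mapIso (PicLoc.pullbackStructureIso π))
  exact ⟨P, inferInstance, inferInstance, π, O1, q, hPB⟩

end Groth.KTheory.Splitting
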