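import Groth.Agent.LambdaCore.ElementaryGamma

/-!
# An extension free on the powers of a line element respects the γ-filtration
-/

set_option autoImplicit false
universe w v u

open LambdaRing Polynomial

namespace Groth.KTheory.Splitting

/-- Functoriality of the γ-filtration (any universes). -/
theorem map_gamma_mem {A : Type v} [CommRing A] [LambdaOps A] {B : Type w} [CommRing B] [LambdaOps B]
    {PA : PosStructure A} {PB : PosStructure B} (G : A →+* B)
    (hl : ∀ i a, G (LambdaOps.lam i a) = LambdaOps.lam i (G a)) (ha : ∀ a, PB.aug (G a) = PA.aug a)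
    {k : ℕ} {x : A} (hx : x ∈ gammaFiltration PA k) : G x ∈ gammaFiltration PB k := by
  rcases Nat.eq_zero_or_pos k with rfl | hk
  · simp [gammaFiltration]
  have hg : ∀ i a, G (gamma i a) = gamma i (G a) := fun i a => by
    simp only [gamma]
    split_ifs
    · simp
    · rw [map_sum]
      refine Finset.sum_congr rfl fun j _ => ?_
      split_ifs <;> simp [hl]
  refine LambdaCore.gammaFiltration_induction (G := (gammaFiltration PB k).comap G.toAddMonoidHom) hk.ne'
    (fun l h1 h2 => ?_) hx
  rw [AddSubgroup.mem_comap, RingHom.toAddMonoidHom_eq_coe, AddMonoidHom.coe_coe, map_list_prod, List.map_map]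
  have h := LambdaCore.prod_mem_gammaFiltration (P := PB) k (l.map fun p => (p.1, G p.2))
    (fun p hp => by
      obtain ⟨q, hq, rfl⟩ := List.mem_map.1 hp
      rw [ha]; exact h1 q hq)
    (by simpa [List.map_map, Function.comp_def] using h2)
  rw [List.map_map] at h
  simp only [Function.comp_def, hg] at h ⊢
  exact h

variable {K : Type u} [CommRing K] [LambdaOps K] {P : PosStructure K}
  {L : Type u} [CommRing L] [LambdaOps L] {Q : PosStructure L}

/-- If `L` is free over `K` on `1, l, …, l^n`, with `l` a line element killed by `extPoly P e`, then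
`F^k L ∩ K = F^k K`. -/
theorem mem_of_map_mem (G : K →+* L) (hG : IsExtension P Q G) (hsK : HasSplitting K P)
    (hsL : HasSplitting L Q) {e : K} (he : e ∈ P.pos) {n : ℕ} (hn : P.aug e = n + 1) (l : L)
    (hl : Q.IsLine l) (hrel : (KRR.extPoly P e).eval₂ G l = 0)
    (hbij : Function.Bijective fun a : Fin (n + 1) → K => ∑ i : Fin (n + 1), G (a i) * l ^ (i : ℕ))
    {k : ℕ} {x : K} (hx : G x ∈ gammaFiltration Q k) : x ∈ gammaFiltration P k := by
  classical
  haveI := LambdaCore.nontrivial_of_posStructure P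
  obtain ⟨hmon, hdeg⟩ := LambdaCore.extPoly_monic_natDegree P e
  rw [show (P.aug e).toNat = n + 1 by omega] at hdeg
  set f := KRR.extPoly P e
  let Θ : AdjoinRoot f →+* L := AdjoinRoot.lift G l hrel
  have hΘinj : Function.Injective Θ := by
    refine (injective_iff_map_eq_zero _).2 fun z hz => ?_
    obtain ⟨p, rfl⟩ := AdjoinRoot.mk_surjective z
    have hr : AdjoinRoot.mk f p = AdjoinRoot.mk f (p %ₘ f) := by
      rw [AdjoinRoot.mk_eq_mk]
      exact ⟨p /ₘ f, (sub_eq_iff_eq_add').2 (modByMonic_add_div p f).symm⟩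
    have hlt : (p %ₘ f).natDegree < n + 1 := by
      rw [← hdeg]
      exact natDegree_modByMonic_lt p hmon (fun h => by rw [h, natDegree_one] at hdeg; omega)
    rw [hr, (p %ₘ f).as_sum_range' (n + 1) hlt]
    rw [hr] at hz
    rw [show Θ (AdjoinRoot.mk f (p %ₘ f)) = (p %ₘ f).eval₂ G l from AdjoinRoot.lift_mk hrel _,
      eval₂_eq_sum_range' G hlt l, ← Fin.sum_univ_eq_sum_range
        (fun i => G ((p %ₘ f).coeff i) * l ^ i)] at hz
    have h0 := hbij.1 (a₁ := fun i : Fin (n + 1) => (p %ₘ f).coeff i) (a₂ := 0) (by simpa using hz)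
    rw [map_sum]
    refine Finset.sum_eq_zero fun i hi => ?_
    have := congrFun h0 ⟨i, Finset.mem_range.1 hi⟩
    simp only [Pi.zero_apply] at this
    rw [this, monomial_zero_right, map_zero]
  have hΘsurj : Function.Surjective Θ := fun y => by
    obtain ⟨a, rfl⟩ := hbij.2 y
    refine ⟨∑ i : Fin (n + 1), AdjoinRoot.of f (a i) * AdjoinRoot.root f ^ (i : ℕ), ?_⟩
    simp only [map_sum, map_mul, map_pow, Θ, AdjoinRoot.lift_of, AdjoinRoot.lift_root]
  let E : AdjoinRoot f ≃+* L := RingEquiv.ofBijective Θ ⟨hΘinj, hΘsurj⟩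
  have hEof : ∀ a, E (AdjoinRoot.of f a) = G a := fun a => AdjoinRoot.lift_of hrel
  have hEroot : E (AdjoinRoot.root f) = l := AdjoinRoot.lift_root hrel
  letI inst : LambdaOps (AdjoinRoot f) :=
    { lam := fun i z => E.symm (LambdaOps.lam i (E z))
      lam_zero := fun z => by rw [LambdaOps.lam_zero, map_one]
      lam_one := fun z => by rw [LambdaOps.lam_one, E.symm_apply_apply]
      lam_add := fun j z z' => by simp only [map_add, LambdaOps.lam_add, map_sum, map_mul] }
  have hlamE : ∀ i z, E (LambdaOps.lam i z) = LambdaOps.lam i (E z) := fun i z =>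
    E.apply_symm_apply _
  let Pe : PosStructure (AdjoinRoot f) :=
    { aug := Q.aug.comp E.toRingHom
      aug_surjective := Q.aug_surjective.comp E.surjective
      pos := E ⁻¹' Q.pos
      add_mem := fun a b ha hb => by simpa using Q.add_mem _ _ ha hb
      mul_mem := fun a b ha hb => by simpa using Q.mul_mem _ _ ha hb
      natCast_mem := fun m hm => by simpa using Q.natCast_mem m hm
      exists_sub := fun z => by
        obtain ⟨a, b, ha, hb, hab⟩ := Q.exists_sub (E z)
        exact ⟨E.symm a, E.symm b, by simpa using ha, by simpa using hb,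
          E.injective (by simp [hab])⟩
      aug_pos := fun a ha => Q.aug_pos _ ha
      lam_eq_zero := fun a ha i hi => by
        show E.symm (LambdaOps.lam i (E a)) = 0
        rw [Q.lam_eq_zero _ ha i hi, map_zero]
      isUnit_lam := fun a ha => (Q.isUnit_lam _ ha).map E.symm }
  have hext : IsExtension P Pe (AdjoinRoot.of f) :=
    { isLambdaHom := fun i a => E.injective (by rw [hlamE, hEof, hEof, hG.isLambdaHom])
      injective := fun a b h => hG.injective (by rw [← hEof a, ← hEof b, h])
      aug_comp := fun a => by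
        show Q.aug (E (AdjoinRoot.of f a)) = _
        rw [hEof, hG.aug_comp]
      pos_subset := fun a ha => by
        show E (AdjoinRoot.of f a) ∈ Q.pos
        rw [hEof]
        exact hG.pos_subset a ha }
  have hline : Pe.IsLine (AdjoinRoot.root f) := by
    refine ⟨?_, ?_⟩
    · show E (AdjoinRoot.root f) ∈ Q.pos
      rw [hEroot]; exact hl.1
    · show Q.aug (E (AdjoinRoot.root f)) = 1
      rw [hEroot]; exact hl.2
  have hsplit : HasSplitting (AdjoinRoot f) Pe := by
    obtain ⟨C, hC, hCs⟩ := hsL
    refine ⟨insert ⟨AdjoinRoot f, Pe⟩ C, Set.mem_insert _ _, fun M hM => ?_⟩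
    rcases Set.mem_insert_iff.1 hM with rfl | hM
    · intro a ha
      obtain ⟨L', hL', φ, hφ, s, hs, hsum⟩ := hCs _ hC (E a) ha
      refine ⟨L', Set.mem_insert_of_mem _ hL', φ.comp E.toRingHom,
        ⟨fun i z => ?_, hφ.injective.comp E.injective, fun z => hφ.aug_comp (E z),
          fun z hz => hφ.pos_subset _ hz⟩, s, hs, hsum⟩
      show φ (E (LambdaOps.lam i z)) = _
      rw [hlamE]
      exact hφ.isLambdaHom i (E z)
    · intro a ha
      obtain ⟨L', hL', φ, hφ, rest⟩ := hCs M hM a ha
      exact ⟨L', Set.mem_insert_of_mem _ hL', φ, hφ, rest⟩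
  have hof : AdjoinRoot.of f x ∈ gammaFiltration Pe k := by
    have := map_gamma_mem (PA := Q) (PB := Pe) E.symm.toRingHom
      (fun i a => by
        show E.symm (LambdaOps.lam i a) = E.symm (LambdaOps.lam i (E (E.symm a)))
        rw [E.apply_symm_apply])
      (fun a => congrArg Q.aug (E.apply_symm_apply a)) hx
    rwa [show E.symm.toRingHom (G x) = AdjoinRoot.of f x from
      E.injective ((E.apply_symm_apply _).trans (hEof x).symm)] at this
  rw [LambdaCore.gammaFiltration_elementaryExtension hsK he hn inst Pe hext hline hsplit k] at hof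
  let T : AddSubgroup (AdjoinRoot f) :=
    { carrier := {z | ∃ p : K[X], AdjoinRoot.mk f p = z ∧ p.degree < (n + 1 : ℕ) ∧
        p.eval 1 ∈ gammaFiltration P k}
      zero_mem' := ⟨0, map_zero _, by rw [degree_zero]; exact WithBot.bot_lt_coe _, by simp⟩
      add_mem' := by
        rintro _ _ ⟨p, rfl, hp, hp'⟩ ⟨q, rfl, hq, hq'⟩
        exact ⟨p + q, map_add _ _ _, (degree_add_le p q).trans_lt (max_lt hp hq), by
          rw [eval_add]; exact add_mem hp' hq'⟩
      neg_mem' := by
        rintro _ ⟨p, rfl, hp, hp'⟩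
        exact ⟨-p, map_neg _ _, by rwa [degree_neg], by rw [eval_neg]; exact neg_mem hp'⟩ }
  have hle : (⨆ i ∈ Finset.range (n + 1), AddSubgroup.map
      ((AddMonoidHom.mulRight ((AdjoinRoot.root f - 1) ^ i)).comp (AdjoinRoot.of f).toAddMonoidHom)
      (gammaFiltration P (k - i))) ≤ T := by
    refine iSup₂_le fun i hi => ?_
    rintro _ ⟨y, hy, rfl⟩
    refine ⟨C y * (X - 1) ^ i, ?_, ?_, ?_⟩
    · simp only [map_mul, map_pow, map_sub, map_one, AdjoinRoot.mk_C, AdjoinRoot.mk_X]
      rfl
    · refine lt_of_le_of_lt (degree_mul_le _ _) ?_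
      rw [show (X - 1 : K[X]) = X - C 1 by rw [map_one], degree_pow' , degree_X_sub_C]
      · calc _ ≤ (0 : WithBot ℕ) + i • 1 := add_le_add degree_C_le le_rfl
          _ < _ := by
            rw [zero_add, nsmul_one]
            exact_mod_cast Finset.mem_range.1 hi
      · rw [leadingCoeff_X_sub_C, one_pow]; exact one_ne_zero
    · rcases Nat.eq_zero_or_pos i with rfl | hi0
      · simpa using hy
      · simp [zero_pow hi0.ne']
  obtain ⟨p, hp, hpd, hpe⟩ := hle hof
  have : p = C x := by
    rw [← sub_eq_zero]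
    by_contra hne
    rw [← AdjoinRoot.mk_C x, ← sub_eq_zero, ← map_sub] at hp
    refine absurd hp (AdjoinRoot.mk_ne_zero_of_degree_lt hmon hne ?_)
    rw [degree_eq_natDegree hmon.ne_zero, hdeg]
    exact lt_of_le_of_lt (degree_sub_le _ _) (max_lt hpd
      (lt_of_le_of_lt degree_C_le (by exact_mod_cast Nat.succ_pos n)))
  rwa [this, eval_C] at hpe

end Groth.KTheory.Splitting
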