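import Groth.Agent.KTheory.Splitting.Tower
import Groth.Agent.KTheory.Splitting.Step
import Groth.Agent.KTheory.TautRel

/-!
# The splitting tower respects the γ-filtration
-/

set_option autoImplicit false
universe v u

open CategoryTheory CategoryTheory.Limits AlgebraicGeometry LambdaRing

namespace Groth.KTheory.Splitting

open Groth.KTheory Groth.KTheory.LambdaVb Groth.KTheory.RegKoszul

theorem pos_subset_pull {X Y : Scheme.{u}} {f : X ⟶ Y} {KX : Type v} [CommRing KX] [LambdaOps KX]
    {PX : PosStructure KX} {φX : SGA6.Kvb X →+ KX} {KY : Type v} [CommRing KY] [LambdaOps KY]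
    {PY : PosStructure KY} {φY : SGA6.Kvb Y →+ KY} (hKX : KRR.IsModel X KX PX φX)
    (hKY : KRR.IsModel Y KY PY φY) {g : KY →+ KX} (hg : KRR.IsPull f φY φX g) {e : KY} (he : e ∈ PY.pos) :
    g e ∈ PX.pos := by
  obtain ⟨k, F, hk, hF, rfl⟩ := (hKY.mem_pos_iff e).1 he
  rw [hg F (Groth.LocFree.isFinLocFree_of_rank hF)]
  exact (hKX.mem_pos_iff _).2 ⟨k, _, hk, Groth.LocFree.isFinLocFreeOfRank_pullback f hF, rfl⟩

/-- Pull-back along a projective bundle reflects the γ-filtration. -/
theorem mem_of_pull_mem {X P : Scheme.{u}} [IsNoetherian X] [ConnectedSpace ↥X] [IsNoetherian P]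
    [ConnectedSpace ↥P] {π : P ⟶ X}
    {E : X.Modules} {O1 : P.Modules} {q : (Scheme.Modules.pullback π).obj E ⟶ O1} {n : ℕ}
    (hE : FlatMod.IsFinLocFreeOfRank (n + 1) E) (hPB : KRR.IsProjBundle π E O1 q)
    {KX : Type (u + 1)} [CommRing KX] [LambdaOps KX] {PX : PosStructure KX}
    {φX : SGA6.Kvb X →+ KX} (hKX : KRR.IsModel X KX PX φX)
    {KP : Type (u + 1)} [CommRing KP] [LambdaOps KP] {PP : PosStructure KP}
    {φP : SGA6.Kvb P →+ KP} (hKP : KRR.IsModel P KP PP φP)
    (g : KX →+ KP) (hg : KRR.IsPull π φX φP g) {k : ℕ} {x : KX} (hx : g x ∈ gammaFiltration PP k) :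
    x ∈ gammaFiltration PX k := by
  obtain ⟨G, hlam, haug, hG⟩ := PullLambda.exists_lambdaHom π hKP hKX hg
  have hinj := injective_pull hE hPB hKX hKP g hg
  have he : φX (KRR.cl X E) ∈ PX.pos := (hKX.mem_pos_iff _).2 ⟨n + 1, E, by omega, hE, rfl⟩
  have haugE : PX.aug (φX (KRR.cl X E)) = n + 1 := by simpa using hKX.aug_cl _ E hE
  refine mem_of_map_mem G
    ⟨hlam, fun a b h => hinj (by rw [← hG a, ← hG b, h]), haug,
      fun e he => by rw [hG]; exact pos_subset_pull hKP hKX hg he⟩
    (hasSplitting X KX PX φX hKX) (hasSplitting P KP PP φP hKP) he haugE (φP (KRR.cl P O1))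
    ⟨(hKP.mem_pos_iff _).2 ⟨1, _, le_rfl, hPB.invertible, rfl⟩,
      by simpa using hKP.aug_cl 1 _ hPB.invertible⟩ ?_ ?_ (by rwa [hG])
  · rw [KRR.extPoly, Polynomial.eval₂_finsetSum, show (PX.aug (φX (KRR.cl X E))).toNat = n + 1 by omega]
    refine (Finset.sum_congr rfl fun i _ => ?_).trans
      (TautRel.tautological_relation hE π O1 q hPB hKX hKP g hg)
    rw [Polynomial.eval₂_mul, Polynomial.eval₂_C, Polynomial.eval₂_X_pow, map_mul, map_pow, map_neg, map_one, hG]
  · simp only [hG]
    exact PBundleK.bijective_powers hE hPB hKX hKP g hg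

/-- Splitting with control of the γ-filtration. -/
theorem exists_split_gamma : ∀ (m : ℕ) (X : Scheme.{u}) [IsNoetherian X] [ConnectedSpace ↥X]
    (K : Type (u + 1)) [CommRing K] [LambdaOps K] (P : PosStructure K)
    (φ : SGA6.Kvb X →+ K), KRR.IsModel X K P φ → ∀ (E : X.Modules), FlatMod.IsFinLocFreeOfRank m E →
    ∃ (X' : Scheme.{u}) (_ : IsNoetherian X') (_ : ConnectedSpace ↥X') (f : X' ⟶ X)
      (K' : Type (u + 1)) (_ : CommRing K') (_ : LambdaOps K') (P' : PosStructure K')
      (φ' : SGA6.Kvb X' →+ K') (_ : KRR.IsModel X' K' P' φ') (g : K →+ K') (_ : KRR.IsPull f φ φ' g),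
      Function.Injective g ∧ (∀ k : ℕ, (gammaFiltration P' k).comap g = gammaFiltration P k) ∧
      ∃ L : Fin m → X'.Modules, (∀ j, FlatMod.IsFinLocFreeOfRank 1 (L j)) ∧
        g (φ (KRR.cl X E)) = ∑ j, φ' (KRR.cl X' (L j)) := by
  intro m
  induction m with
  | zero =>
    intro X _ _ K _ _ P φ hK E hE
    refine ⟨X, inferInstance, inferInstance, 𝟙 X, K, inferInstance, inferInstance, P, φ, hK,
      AddMonoidHom.id K, fun F hF => ?_, fun _ _ h => h, fun k => AddSubgroup.comap_id _,
      Fin.elim0, fun j => j.elim0, ?_⟩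
    · exact congrArg φ (kcl_iso ((Scheme.Modules.pullbackId X).app F)
        (Groth.LocFree.isFinLocFree_pullback _ hF)).symm
    · show φ (KRR.cl X E) = _
      rw [Fin.sum_univ_zero, show KRR.cl X E = 0 from KvbModel.kcl_zero (KvbModel.isZero_of_rank_zero hE),
        map_zero]
  | succ n ih =>
    intro X _ _ K _ _ P φ hK E hE
    obtain ⟨Q, _, _, π, O1, q, hPB⟩ := exists_bundle hE
    obtain ⟨KQ, _, _, PQ, φQ, hKQ⟩ := KvbModel.exists_isModel Q
    obtain ⟨g₁, hg₁, -⟩ := KvbPull.existsUnique_isPull π φQ φ hK.bijective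
    have hE' := Groth.LocFree.isFinLocFreeOfRank_pullback π hE
    let S := ShortComplex.mk (kernel.ι q) q (kernel.condition q)
    have hS : S.ShortExact :=
      { exact := ShortComplex.exact_of_f_is_kernel _ (kernelIsKernel q)
        mono_f := inferInstance
        epi_g := hPB.epi }
    have hker : FlatMod.IsFinLocFreeOfRank n (kernel q) :=
      Groth.LocFree.isFinLocFreeOfRank_left (S := S) hS hE' hPB.invertible
    obtain ⟨X', _, _, f, K', _, _, P', φ', hK', g₂, hg₂, hinj, hcom, L, hL, hsum⟩ :=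
      ih Q KQ PQ φQ hKQ (kernel q) hker
    have hcomp : KRR.IsPull (f ≫ π) φ φ' (g₂.comp g₁) := fun F hF => by
      show g₂ (g₁ (φ (KRR.cl X F))) = _
      rw [hg₁ F hF, hg₂ _ (Groth.LocFree.isFinLocFree_pullback π hF)]
      exact congrArg φ' (kcl_iso ((Scheme.Modules.pullbackComp f π).app F)
        (Groth.LocFree.isFinLocFree_pullback f (Groth.LocFree.isFinLocFree_pullback π hF)))
    refine ⟨X', inferInstance, inferInstance, f ≫ π, K', inferInstance, inferInstance, P', φ', hK',
      g₂.comp g₁, hcomp, hinj.comp (injective_pull hE hPB hK hKQ g₁ hg₁), fun k => ?_,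
      Fin.cons ((Scheme.Modules.pullback f).obj O1) L,
      Fin.cases (Groth.LocFree.isFinLocFreeOfRank_pullback f hPB.invertible) hL, ?_⟩
    · rw [← AddSubgroup.comap_comap, hcom k]
      refine le_antisymm (fun x hx => mem_of_pull_mem hE hPB hK hKQ g₁ hg₁ hx) fun x hx => ?_
      obtain ⟨G, hlam, haug, hG⟩ := PullLambda.exists_lambdaHom π hKQ hK hg₁
      rw [AddSubgroup.mem_comap, ← hG]
      exact map_gamma_mem G hlam haug hx
    have hvO := Groth.LocFree.isFinLocFree_of_rank hPB.invertible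
    have hE1 : φQ (KRR.cl Q ((Scheme.Modules.pullback π).obj E)) =
        φQ (KRR.cl Q (kernel q)) + φQ (KRR.cl Q O1) :=
      (congrArg φQ (clSub_rel (P := fun M : Q.Modules => FlatMod.IsFinLocFree M) S hS
        (Groth.LocFree.isFinLocFree_of_rank hker) (Groth.LocFree.isFinLocFree_of_rank hE') hvO)).trans
        (map_add φQ _ _)
    show g₂ (g₁ (φ (KRR.cl X E))) = _
    rw [hg₁ E (Groth.LocFree.isFinLocFree_of_rank hE), hE1, map_add, hsum, hg₂ O1 hvO, Fin.sum_univ_succ]
    simp only [Fin.cons_zero, Fin.cons_succ]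
    rw [add_comm]

/-- Two models of `K(X)`, in any universes, are isomorphic as augmented λ-rings. -/
theorem exists_modelIso {X : Scheme.{u}} {A : Type v} [CommRing A] [LambdaOps A] {PA : PosStructure A}
    {φA : SGA6.Kvb X →+ A} (hA : KRR.IsModel X A PA φA) {B : Type (u + 1)} [CommRing B] [LambdaOps B]
    {PB : PosStructure B} {φB : SGA6.Kvb X →+ B} (hB : KRR.IsModel X B PB φB) :
    ∃ G : A ≃+* B, (∀ i a, G (LambdaOps.lam i a) = LambdaOps.lam i (G a)) ∧
      (∀ a, PB.aug (G a) = PA.aug a) ∧ ∀ y, G (φA y) = φB y := by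
  let eA := AddEquiv.ofBijective φA hA.bijective
  let eB := AddEquiv.ofBijective φB hB.bijective
  let g : A ≃+ B := eA.symm.trans eB
  have hgφ : ∀ y, g (φA y) = φB y := fun y => congrArg φB (eA.symm_apply_apply y)
  have hmul : ∀ a b, g (a * b) = g a * g b := fun a b => by
    obtain ⟨a, rfl⟩ := hA.bijective.2 a
    obtain ⟨b, rfl⟩ := hA.bijective.2 b
    induction a using k0sub_induction with
    | h0 => simp
    | hadd p q hp hq => simp only [map_add, add_mul, hp, hq]
    | hneg p hp => simp only [map_neg, neg_mul, hp]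
    | hcl E hE =>
      induction b using k0sub_induction with
      | h0 => simp
      | hadd p q hp hq => simp only [map_add, mul_add, hp, hq]
      | hneg p hp => simp only [map_neg, mul_neg, hp]
      | hcl F hF =>
        show g (φA (KRR.cl X E) * φA (KRR.cl X F)) = g (φA (KRR.cl X E)) * g (φA (KRR.cl X F))
        rw [hA.map_mul E F hE hF, hgφ, hgφ, hgφ, hB.map_mul E F hE hF]
  let G : A ≃+* B := { g with map_mul' := hmul }
  have hGg : ∀ a, G a = g a := fun a => rfl
  have hlampos : ∀ {a : A}, a ∈ PA.pos → ∀ i, G (LambdaOps.lam i a) = LambdaOps.lam i (G a) := by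
    intro a ha i
    obtain ⟨k, E, hk, hE, rfl⟩ := (hA.mem_pos_iff a).1 ha
    have hv := Groth.LocFree.isFinLocFree_of_rank hE
    have := KTheory.LocFree.isQCoh hv
    have hΛ := Groth.LocFree.isFinLocFree_extPow hv i
    rw [hA.map_lam i E _ hv hΛ (Groth.LocFree.isExtPow_extPow i E), hGg, hgφ, hGg, hgφ,
      hB.map_lam i E _ hv hΛ (Groth.LocFree.isExtPow_extPow i E)]
  have haugpos : ∀ {a : A}, a ∈ PA.pos → PB.aug (G a) = PA.aug a := by
    intro a ha
    obtain ⟨k, E, hk, hE, rfl⟩ := (hA.mem_pos_iff a).1 ha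
    rw [hGg, hgφ, hA.aug_cl k E hE, hB.aug_cl k E hE]
  refine ⟨G, fun i a => ?_, fun a => ?_, hgφ⟩
  · obtain ⟨e, e', he, he', rfl⟩ := PA.exists_sub a
    have hs : ∀ {z : A}, z ∈ PA.pos → PowerSeries.map G.toRingHom (lamSeries z) = lamSeries (G z) := fun hz =>
      PowerSeries.ext fun j => by
        simp only [PowerSeries.coeff_map, lamSeries, PowerSeries.coeff_mk]
        exact hlampos hz j
    have key : PowerSeries.map G.toRingHom (lamSeries (e - e')) = lamSeries (G (e - e')) := by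
      refine (LambdaCore.isUnit_lamSeries (G e')).mul_right_cancel ?_
      rw [map_sub G, LambdaCore.lamSeries_sub_mul, ← hs he', ← map_mul, LambdaCore.lamSeries_sub_mul, hs he]
    simpa [lamSeries] using congrArg (PowerSeries.coeff i) key
  · obtain ⟨e, e', he, he', rfl⟩ := PA.exists_sub a
    rw [map_sub G, map_sub, map_sub, haugpos he, haugpos he']

/-- The splitting property for schemes, with the model in any universe. -/
theorem splitting_schemes (X : Scheme.{u}) [IsNoetherian X] [ConnectedSpace ↥X]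
    (K : Type v) [CommRing K] [LambdaOps K] (P : PosStructure K) (φ : SGA6.Kvb X →+ K)
    (hK : KRR.IsModel X K P φ) (m : ℕ) (E : X.Modules) (hE : FlatMod.IsFinLocFreeOfRank m E) :
    ∃ (X' : Scheme.{u}) (_ : IsNoetherian X') (_ : ConnectedSpace ↥X') (f : X' ⟶ X)
      (K' : Type (u + 1)) (_ : CommRing K') (_ : LambdaOps K') (P' : PosStructure K')
      (φ' : SGA6.Kvb X' →+ K') (_ : KRR.IsModel X' K' P' φ') (g : K →+ K') (_ : KRR.IsPull f φ φ' g),
      Function.Injective g ∧ (∀ k : ℕ, (gammaFiltration P' k).comap g = gammaFiltration P k) ∧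
      ∃ L : Fin m → X'.Modules, (∀ j, FlatMod.IsFinLocFreeOfRank 1 (L j)) ∧
        g (φ (KRR.cl X E)) = ∑ j, φ' (KRR.cl X' (L j)) := by
  obtain ⟨B, _, _, PB, φB, hB⟩ := KvbModel.exists_isModel X
  obtain ⟨G, hl, ha, hG⟩ := exists_modelIso hK hB
  obtain ⟨X', i1, i2, f, K', i3, i4, P', φ', hK', g, hg, hinj, hcom, L, hL, hsum⟩ :=
    exists_split_gamma m X B PB φB hB E hE
  refine ⟨X', i1, i2, f, K', i3, i4, P', φ', hK', g.comp G.toAddEquiv.toAddMonoidHom, fun F hF => ?_,
    hinj.comp G.injective, fun k => ?_, L, hL, ?_⟩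
  · show g (G (φ (KRR.cl X F))) = _
    rw [hG, hg F hF]
  · rw [← AddSubgroup.comap_comap, hcom k]
    refine le_antisymm (fun x hx => ?_) fun x hx => map_gamma_mem G.toRingHom hl ha hx
    have := map_gamma_mem (PA := PB) (PB := P) G.symm.toRingHom
      (fun i b => G.injective (by
        rw [hl]
        show G (G.symm (LambdaOps.lam i b)) = LambdaOps.lam i (G (G.symm b))
        rw [G.apply_symm_apply, G.apply_symm_apply]))
      (fun b => by
        show P.aug (G.symm b) = PB.aug b
        rw [← ha, G.apply_symm_apply]) hx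
    rwa [show G.symm.toRingHom (G.toAddEquiv.toAddMonoidHom x) = x from G.symm_apply_apply x] at this
  · show g (G (φ (KRR.cl X E))) = _
    rw [hG, hsum]

end Groth.KTheory.Splitting
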