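import Groth.Agent.KTheory.Splitting.Bundle
import Groth.Agent.KTheory.KvbModel
import Groth.Agent.KTheory.KvbPull
import Groth.Agent.KTheory.PullLambda

/-!
# Splitting a bundle after an injective pull-back
-/

set_option autoImplicit false
universe v u

open CategoryTheory CategoryTheory.Limits AlgebraicGeometry

namespace Groth.KTheory.Splitting

open Groth.KTheory Groth.KTheory.LambdaVb Groth.KTheory.RegKoszul

/-- Pull-back along a projective bundle is injective on `K₀`. -/
theorem injective_pull {X P : Scheme.{u}} [IsNoetherian X] [ConnectedSpace ↥P] {π : P ⟶ X}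
    {E : X.Modules} {O1 : P.Modules} {q : (Scheme.Modules.pullback π).obj E ⟶ O1} {n : ℕ}
    (hE : FlatMod.IsFinLocFreeOfRank (n + 1) E) (hPB : KRR.IsProjBundle π E O1 q)
    {KX : Type v} [CommRing KX] [LambdaRing.LambdaOps KX] {PX : LambdaRing.PosStructure KX}
    {φX : SGA6.Kvb X →+ KX} (hKX : KRR.IsModel X KX PX φX)
    {KP : Type v} [CommRing KP] [LambdaRing.LambdaOps KP] {PP : LambdaRing.PosStructure KP}
    {φP : SGA6.Kvb P →+ KP} (hKP : KRR.IsModel P KP PP φP)
    (g : KX →+ KP) (hg : KRR.IsPull π φX φP g) : Function.Injective g := by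
  intro x y h
  have hb := PBundleK.bijective_powers hE hPB hKX hKP g hg
  have hs : ∀ z : KX, (∑ i : Fin (n + 1), g ((Pi.single 0 z : Fin (n + 1) → KX) i) *
      φP (KRR.cl P O1) ^ (i : ℕ)) = g z := fun z => by
    rw [Finset.sum_eq_single 0]
    · simp
    · intro i _ hi
      rw [Pi.single_eq_of_ne hi, map_zero, zero_mul]
    · simp
  have := hb.1 (a₁ := Pi.single 0 x) (a₂ := Pi.single 0 y) (by simp only [hs]; exact h)
  simpa using congrFun this 0

/-- Every bundle becomes a sum of line classes after an injective pull-back. -/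
theorem exists_split : ∀ (m : ℕ) (X : Scheme.{u}) [IsNoetherian X] [ConnectedSpace ↥X]
    (K : Type (u + 1)) [CommRing K] [LambdaRing.LambdaOps K] (P : LambdaRing.PosStructure K)
    (φ : SGA6.Kvb X →+ K), KRR.IsModel X K P φ → ∀ (E : X.Modules), FlatMod.IsFinLocFreeOfRank m E →
    ∃ (X' : Scheme.{u}) (_ : IsNoetherian X') (_ : ConnectedSpace ↥X') (f : X' ⟶ X)
      (K' : Type (u + 1)) (_ : CommRing K') (_ : LambdaRing.LambdaOps K') (P' : LambdaRing.PosStructure K')
      (φ' : SGA6.Kvb X' →+ K') (_ : KRR.IsModel X' K' P' φ') (g : K →+ K') (_ : KRR.IsPull f φ φ' g),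
      Function.Injective g ∧
      ∃ L : Fin m → X'.Modules, (∀ j, FlatMod.IsFinLocFreeOfRank 1 (L j)) ∧
        g (φ (KRR.cl X E)) = ∑ j, φ' (KRR.cl X' (L j)) := by
  intro m
  induction m with
  | zero =>
    intro X _ _ K _ _ P φ hK E hE
    refine ⟨X, inferInstance, inferInstance, 𝟙 X, K, inferInstance, inferInstance, P, φ, hK,
      AddMonoidHom.id K, fun F hF => ?_, fun _ _ h => h, Fin.elim0, fun j => j.elim0, ?_⟩
    · exact congrArg φ (kcl_iso ((Scheme.Modules.pullbackId X).app F)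
        (Groth.LocFree.isFinLocFree_pullback _ hF)).symm
    · show φ (KRR.cl X E) = _
      rw [Fin.sum_univ_zero, show KRR.cl X E = 0 from KvbModel.kcl_zero (KvbModel.isZero_of_rank_zero hE),
        map_zero]
  | succ n ih =>
    intro X _ _ K _ _ P φ hK E hE
    obtain ⟨Q, _, _, π, O1, q, hPB⟩ := exists_bundle hE
    obtain ⟨KQ, _, _, PQ, φQ, hKQ⟩ := KvbModel.exists_isModel Q
    obtain ⟨g₁, hg₁, -⟩ := KvbPull.existsUnique_isPull π φQ φ hK.bijective
    have hE' := Groth.LocFree.isFinLocFreeOfRank_pullback π hE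
    let S := ShortComplex.mk (kernel.ι q) q (kernel.condition q)
    have hS : S.ShortExact :=
      { exact := ShortComplex.exact_of_f_is_kernel _ (kernelIsKernel q)
        mono_f := inferInstance
        epi_g := hPB.epi }
    have hker : FlatMod.IsFinLocFreeOfRank n (kernel q) :=
      Groth.LocFree.isFinLocFreeOfRank_left (S := S) hS hE' hPB.invertible
    obtain ⟨X', _, _, f, K', _, _, P', φ', hK', g₂, hg₂, hinj, L, hL, hsum⟩ :=
      ih Q KQ PQ φQ hKQ (kernel q) hker
    have hcomp : KRR.IsPull (f ≫ π) φ φ' (g₂.comp g₁) := fun F hF => by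
      show g₂ (g₁ (φ (KRR.cl X F))) = _
      rw [hg₁ F hF, hg₂ _ (Groth.LocFree.isFinLocFree_pullback π hF)]
      exact congrArg φ' (kcl_iso ((Scheme.Modules.pullbackComp f π).app F)
        (Groth.LocFree.isFinLocFree_pullback f (Groth.LocFree.isFinLocFree_pullback π hF)))
    refine ⟨X', inferInstance, inferInstance, f ≫ π, K', inferInstance, inferInstance, P', φ', hK',
      g₂.comp g₁, hcomp, hinj.comp (injective_pull hE hPB hK hKQ g₁ hg₁),
      Fin.cons ((Scheme.Modules.pullback f).obj O1) L,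
      Fin.cases (Groth.LocFree.isFinLocFreeOfRank_pullback f hPB.invertible) hL, ?_⟩
    have hvO := Groth.LocFree.isFinLocFree_of_rank hPB.invertible
    have hE1 : φQ (KRR.cl Q ((Scheme.Modules.pullback π).obj E)) =
        φQ (KRR.cl Q (kernel q)) + φQ (KRR.cl Q O1) :=
      (congrArg φQ (clSub_rel (P := fun M : Q.Modules => FlatMod.IsFinLocFree M) S hS
        (Groth.LocFree.isFinLocFree_of_rank hker) (Groth.LocFree.isFinLocFree_of_rank hE') hvO)).trans
        (map_add φQ _ _)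
    show g₂ (g₁ (φ (KRR.cl X E))) = _
    rw [hg₁ E (Groth.LocFree.isFinLocFree_of_rank hE), hE1, map_add, hsum, hg₂ O1 hvO, Fin.sum_univ_succ]
    simp only [Fin.cons_zero, Fin.cons_succ]
    rw [add_comm]

/-- The class of models of connected noetherian schemes has the splitting property. -/
theorem hasSplitting (X : Scheme.{u}) [IsNoetherian X] [ConnectedSpace ↥X]
    (K : Type (u + 1)) [CommRing K] [LambdaRing.LambdaOps K] (P : LambdaRing.PosStructure K)
    (φ : SGA6.Kvb X →+ K) (hK : KRR.IsModel X K P φ) : LambdaRing.HasSplitting K P := by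
  refine ⟨{L | ∃ (Y : Scheme.{u}) (_ : IsNoetherian Y) (_ : ConnectedSpace ↥Y) (ψ : SGA6.Kvb Y →+ L.carrier),
    KRR.IsModel Y L.carrier L.posStr ψ}, ⟨X, inferInstance, inferInstance, φ, hK⟩, ?_⟩
  rintro ⟨KY, PY⟩ ⟨Y, _, _, ψ, hY⟩ e he
  obtain ⟨m, E, hm, hE, rfl⟩ := (hY.mem_pos_iff e).1 he
  obtain ⟨Y', _, _, f, K', _, _, P', φ', hK', g, hg, hinj, L, hL, hsum⟩ := exists_split m Y KY PY ψ hY E hE
  obtain ⟨G, hlam, haug, hG⟩ := PullLambda.exists_lambdaHom f hK' hY hg
  refine ⟨⟨K', P'⟩, ⟨Y', inferInstance, inferInstance, φ', hK'⟩, G,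
    ⟨hlam, fun a b h => hinj (by rw [← hG a, ← hG b, h]), haug, fun e he => ?_⟩,
    Finset.univ.val.map (fun j => φ' (KRR.cl Y' (L j))), fun u hu => ?_, ?_⟩
  · obtain ⟨k, F, hk, hF, rfl⟩ := (hY.mem_pos_iff e).1 he
    rw [hG, hg F (Groth.LocFree.isFinLocFree_of_rank hF)]
    exact (hK'.mem_pos_iff _).2 ⟨k, _, hk, Groth.LocFree.isFinLocFreeOfRank_pullback f hF, rfl⟩
  · obtain ⟨j, -, rfl⟩ := Multiset.mem_map.1 hu
    exact ⟨(hK'.mem_pos_iff _).2 ⟨1, _, le_rfl, hL j, rfl⟩, by simpa using hK'.aug_cl 1 _ (hL j)⟩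
  · rw [hG, hsum]
    rfl

end Groth.KTheory.Splitting
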